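import Groth.Agent.H22.LocBlow.Extend
import Groth.Agent.H22.StrictTransform.CommonTargetMany
import Groth.Agent.H22.BlowUpAmple
import Groth.Agent.H22.BlowUpComp.Cover
import Groth.Agent.Lib.PProj.Compose
import Groth.Agent.S18198
import Groth.Agent.S18202

/-!
# Admissible blow-ups make a morphism essentially quasi-projective
-/

set_option autoImplicit false
set_option maxHeartbeats 1000000

noncomputable section

universe u

open CategoryTheory CategoryTheory.Limits AlgebraicGeometry TopologicalSpace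

namespace Groth.Agent.H22.LocBlow

open Groth.Agent.Lib StrictTransform

/-- Blow-ups in ideals of finite type are projective over a quasi-compact quasi-separated base. -/
theorem isProjective_of_isBlowUp {X X' : Scheme.{u}} [CompactSpace X] [QuasiSeparatedSpace X]
    {b : X' ⟶ X} {I : X.IdealSheafData} (hb : BlowUp.IsBlowUp b I) (hI : Lim.IdealExt.IsFG I) :
    RelProj.IsProjective b := by
  haveI : IsProper (BlowUpExists.blProj I) := BlowUpExists.isProper_blProj hI
  have h : RelProj.IsProjective (BlowUpExists.blProj I) :=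
    PProj.isProjective_of_isProper _ ⟨inferInstance, inferInstance, BlowUpAmple.excMod I,
      inferInstance, fun V => BlowUpAmple.isAmple_excMod hI V⟩
  obtain ⟨k, hk, hkb⟩ := BlowUpComp.exists_iso hb
  rw [← hkb]
  exact PProj.Main.isProjective_closedImmersion_comp h k

/-- A lift to a blow-up of a localizing immersion missing the centre is a localizing immersion. -/
theorem isLocImmersion_lift {Z W W' : Scheme.{u}}
    {c : W' ⟶ W} {I : W.IdealSheafData} (hc : BlowUp.IsBlowUp c I) (u : Z ⟶ W)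
    (hu : LocImm.IsLocImmersion u) (hoff : ∀ z, u z ∉ I.support) (e : Z ⟶ W') (he : e ≫ c = u) :
    LocImm.IsLocImmersion e := by
  haveI := Lib.Ideal.BlowUp.isIso_off_center hc
  have htop : u ⁻¹ᵁ off I = ⊤ := eq_top_iff.2 fun z _ => hoff z
  have hopen : ∀ {A B : Scheme.{u}} (g : A ⟶ B) [IsOpenImmersion g], LocImm.IsLocImmersion g :=
    fun g _ => ⟨H48.LocImm.isLocalizing_of_isOpenImmersion g, g.isOpenEmbedding.injective⟩
  have hfac : e = (Z.topIso.inv ≫ (Z.isoOfEq htop).inv) ≫ (u ∣_ off I) ≫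
      CategoryTheory.inv (c ∣_ off I) ≫ (c ⁻¹ᵁ off I).ι := by
    refine (hc.2 Z u ?_).unique he ?_
    · exact Lib.Ideal.EffCartier.isEffCartier_comap_of_disjoint _ hoff
    · show (_ ≫ _ ≫ _ ≫ _) ≫ c = u
      simp only [Category.assoc]
      rw [← morphismRestrict_ι, IsIso.inv_hom_id_assoc, morphismRestrict_ι,
        Scheme.isoOfEq_inv_ι_assoc]
      exact Z.topIso.inv_hom_id_assoc u
  rw [hfac]
  exact H48.LocImm.isLocImmersion_comp (hopen _)
    (H48.LocImm.isLocImmersion_comp (H48.LocImm.isLocImmersion_restrict hu (off I)) (hopen _))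

theorem exists_essQP {U Y S P : Scheme.{u}} [IsNoetherian U] [IsNoetherian Y] [IsNoetherian S]
    [IsNoetherian P] (π : Y ⟶ S) [IsSeparated π] [EssFT.EssFiniteType π] (f : U ⟶ Y)
    (hf : LocImm.IsLocImmersion f) (j : U ⟶ P) (p : P ⟶ S) (hj : LocImm.IsLocImmersion j)
    (hp : RelProj.IsProjective p) (hc : j ≫ p = f ≫ π) :
    ∃ (𝓘 : Y.IdealSheafData) (Yt P' : Scheme.{u}) (b : Yt ⟶ Y) (j' : Yt ⟶ P') (p' : P' ⟶ S),
      BlowUp.IsBlowUp b 𝓘 ∧ (∀ z, f z ∉ 𝓘.support) ∧
      LocImm.IsLocImmersion j' ∧ RelProj.IsProjective p' ∧ j' ≫ p' = b ≫ π := by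
  obtain ⟨Yb, k, q, hN, hk, hq, hkq⟩ := Groth.Agent.S18198.result π
  haveI := hN; haveI := hq
  haveI : IsProper p := HProj.Proper.isProper_of_isProjective hp
  let l : U ⟶ pullback q p := pullback.lift (f ≫ k) j (by rw [Category.assoc, hkq, hc])
  haveI : QuasiSeparatedSpace ↥(pullback q p) :=
    quasiSeparatedSpace_of_quasiSeparated (pullback.fst q p)
  haveI : QuasiCompact l := quasiCompact_of_compactSpace l
  let pr₁ : l.image ⟶ Yb := l.imageι ≫ pullback.fst q p
  let pr₂ : l.image ⟶ P := l.imageι ≫ pullback.snd q p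
  haveI : IsLocallyNoetherian l.image := LocallyOfFiniteType.isLocallyNoetherian pr₁
  haveI : CompactSpace l.image := QuasiCompact.compactSpace_of_compactSpace pr₁
  haveI : IsNoetherian l.image := { }
  have h₁ : l.toImage ≫ pr₁ = f ≫ k := by
    simp only [pr₁, Scheme.Hom.toImage_imageι_assoc, l, pullback.lift_fst]
  have h₂ : l.toImage ≫ pr₂ = j := by
    simp only [pr₂, Scheme.Hom.toImage_imageι_assoc, l, pullback.lift_snd]
  have hu : LocImm.IsLocImmersion l.toImage := isLocImmersion_toImage l (pullback.snd q p) (by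
    simp only [l, pullback.lift_snd]; exact hj)
  obtain ⟨I, J, W', c, hcI, hI, hcJ, hJ⟩ := exists_iso pr₂ l.toImage hu (by rw [h₂]; exact hj)
  haveI : IsProper c := BlowUpExists.isProper_of_isBlowUp hcI (isFG_of_noetherian _)
  haveI : IsLocallyNoetherian W' := LocallyOfFiniteType.isLocallyNoetherian c
  haveI : CompactSpace W' := QuasiCompact.compactSpace_of_compactSpace c
  haveI : IsNoetherian W' := { }
  obtain ⟨e, he, -⟩ := hcI.2 U l.toImage
    (Lib.Ideal.EffCartier.isEffCartier_comap_of_disjoint _ hI)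
  have hfk := H48.LocImm.isLocImmersion_comp hf hk
  obtain ⟨I₂, J₂, W'', c₂, hc₂I, hI₂, hc₂J, hJ₂⟩ := exists_iso (c ≫ pr₁) e
    (isLocImmersion_lift hcI l.toImage hu hI e he) (by rw [reassoc_of% he, h₁]; exact hfk)
  obtain ⟨K, hK, -, hKb⟩ := BlowUpComp.exists_comp hcJ (isFG_of_noetherian _)
    (isFG_of_noetherian I₂) hc₂I
  haveI : IsProper c₂ := BlowUpExists.isProper_of_isBlowUp hc₂I (isFG_of_noetherian _)
  haveI : IsLocallyNoetherian W'' := LocallyOfFiniteType.isLocallyNoetherian c₂
  haveI : CompactSpace W'' := QuasiCompact.compactSpace_of_compactSpace c₂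
  haveI : IsNoetherian W'' := { }
  haveI : Flat k := H48.LocImm.flat_of_isLocalizing hk.1
  refine ⟨J₂.comap k, pullback k (c₂ ≫ c ≫ pr₁), W'', pullback.fst _ _, pullback.snd _ _,
    (c₂ ≫ c ≫ pr₂) ≫ p, StrictTransform.isBlowUp_pullback_fst hc₂J k, fun z hz => ?_,
    Groth.Agent.S18202.result k _ hk, PProj.isProjective_comp (isProjective_of_isBlowUp hKb hK) hp, ?_⟩
  · rw [Scheme.IdealSheafData.support_comap] at hz
    refine hJ₂ z ?_
    show (e ≫ c ≫ pr₁) z ∈ J₂.support
    rw [reassoc_of% he, h₁, Scheme.Hom.comp_apply]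
    exact hz
  · rw [← hkq, pullback.condition_assoc]
    simp only [pr₁, pr₂, Category.assoc, pullback.condition]

end Groth.Agent.H22.LocBlow
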