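import Groth.Agent.H22.LocBlow.Extend
import Groth.Agent.H22.BlowUpSeparateMany
import Groth.Agent.H22.StrictTransform.CommonTargetMany
import Groth.Agent.S18198
import Groth.Agent.S18202

/-!
# A common target for several localizing immersions
-/

set_option autoImplicit false
set_option maxHeartbeats 1000000

noncomputable section

universe u

open CategoryTheory CategoryTheory.Limits AlgebraicGeometry TopologicalSpace

namespace Groth.Agent.H22.LocBlow

open Groth.Agent.Lib StrictTransform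

theorem exists_target {S U : Scheme.{u}} [IsNoetherian S] [IsNoetherian U] {n : ℕ}
    (gU : U ⟶ S) (Y : Fin n → Scheme.{u}) [∀ i, IsNoetherian (Y i)] (q : ∀ i, Y i ⟶ S)
    [∀ i, IsSeparated (q i)] [∀ i, EssFT.EssFiniteType (q i)]
    (f : ∀ i, U ⟶ Y i) (hf : ∀ i, LocImm.IsLocImmersion (f i)) (hfq : ∀ i, f i ≫ q i = gU) :
    ∃ (Z : Scheme.{u}) (r : Z ⟶ S) (_ : IsSeparated r) (_ : LocallyOfFiniteType r) (_ : QuasiCompact r)
      (𝓘 : ∀ i, (Y i).IdealSheafData) (Yt : Fin n → Scheme.{u}) (b : ∀ i, Yt i ⟶ Y i) (u : ∀ i, U ⟶ Yt i) (g : ∀ i, Yt i ⟶ Z),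
      (∀ i, BlowUp.IsBlowUp (b i) (𝓘 i) ∧ (∀ z, f i z ∉ (𝓘 i).support) ∧
        u i ≫ b i = f i ∧ LocImm.IsLocImmersion (g i) ∧ Dense (Set.range (fun x => g i x)) ∧ g i ≫ r = b i ≫ q i) ∧
      (∀ i i', u i ≫ g i = u i' ≫ g i') := by
  choose Yb k p hN hk hp hkp using fun i => Groth.Agent.S18198.result (q i)
  haveI := hN; haveI := hp
  haveI := BlowUpSeparateMany.isProper_base n Yb p hp
  let l : U ⟶ widePullback S Yb p :=
    WidePullback.lift gU (fun i => f i ≫ k i) (fun i => by rw [Category.assoc, hkp, hfq])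
  haveI : QuasiSeparatedSpace ↥(widePullback S Yb p) :=
    quasiSeparatedSpace_of_quasiSeparated (WidePullback.base p)
  haveI : QuasiCompact l := quasiCompact_of_compactSpace l
  let base : l.image ⟶ S := l.imageι ≫ WidePullback.base p
  haveI : IsLocallyNoetherian l.image := LocallyOfFiniteType.isLocallyNoetherian base
  haveI : CompactSpace l.image := QuasiCompact.compactSpace_of_compactSpace base
  haveI : IsNoetherian l.image := { }
  let π : ∀ i, l.image ⟶ Yb i := fun i => l.imageι ≫ WidePullback.π p i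
  have hπp : ∀ i, π i ≫ p i = base := fun i => by
    simp only [π, base, Category.assoc, WidePullback.π_arrow]
  haveI hπ : ∀ i, IsProper (π i) := fun i => by
    haveI : IsProper (π i ≫ p i) := by rw [hπp]; infer_instance
    exact IsProper.of_comp (π i) (p i)
  have hlπ : ∀ i, l.toImage ≫ π i = f i ≫ k i := fun i => by
    simp only [π, Scheme.Hom.toImage_imageι_assoc, l, WidePullback.lift_π]
  have hfk : ∀ i, LocImm.IsLocImmersion (f i ≫ k i) := fun i =>
    H48.LocImm.isLocImmersion_comp (hf i) (hk i)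
  have key : ∀ i, ∃ (I : l.image.IdealSheafData) (J : (Yb i).IdealSheafData) (X : Scheme.{u})
      (c : X ⟶ l.image), BlowUp.IsBlowUp c I ∧ (∀ z, l.toImage z ∉ I.support) ∧
      BlowUp.IsBlowUp (c ≫ π i) J ∧ (∀ z, π i (l.toImage z) ∉ J.support) := fun i =>
    exists_iso (π i) l.toImage
      (isLocImmersion_toImage l (WidePullback.π p i) (by
        simp only [l, WidePullback.lift_π]; exact hfk i))
      (by rw [hlπ]; exact hfk i)
  choose I J X c hc hI hcJ hJ using key
  haveI hcp : ∀ i, IsProper (c i) := fun i =>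
    BlowUpExists.isProper_of_isBlowUp (hc i) (isFG_of_noetherian _)
  -- the common open
  let U₀ : l.image.Opens := Finset.univ.inf fun i => off (I i)
  have hU₀ : ∀ i, U₀ ≤ off (I i) := fun i => Finset.inf_le (Finset.mem_univ i)
  have hlU₀ : ∀ z, l.toImage z ∈ U₀ := fun z => by
    rw [← SetLike.mem_coe, Opens.coe_finset_inf, Finset.inf_set_eq_iInter]
    exact Set.mem_iInter₂.2 fun i _ => hI i z
  haveI : CompactSpace (U₀ : Scheme.{u}) :=
    isCompact_iff_compactSpace.1 (NoetherianSpace.isCompact _)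
  haveI : QuasiCompact U₀.ι := quasiCompact_iff_compactSpace U₀.ι |>.2 inferInstance
  have hlift : ∀ i, ∃ s : (U₀ : Scheme.{u}) ⟶ X i, IsOpenImmersion s ∧ s ≫ c i = U₀.ι := fun i => by
    haveI := Lib.Ideal.BlowUp.isIso_off_center (hc i)
    refine ⟨l.image.homOfLE (hU₀ i) ≫ inv (c i ∣_ off (I i)) ≫ ((c i) ⁻¹ᵁ off (I i)).ι,
      inferInstance, ?_⟩
    simp only [Category.assoc]
    rw [← morphismRestrict_ι, IsIso.inv_hom_id_assoc, Scheme.homOfLE_ι]
  choose s hs hsc using hlift
  haveI := hs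
  obtain ⟨Z, r, hrs, hrq, hrl, v, 𝓘', X', b', o, u', hv, hvr, hall, hcov⟩ :=
    StrictTransform.exists_common_target_many (U₀.ι ≫ base) n X (fun i => c i ≫ π i ≫ p i)
      (fun i => ⟨inferInstance, inferInstance, inferInstance⟩) s
      (fun i => by rw [reassoc_of% hsc i, hπp])
  have hr₀ : Set.range l.toImage ⊆ Set.range U₀.ι := by
    rw [Scheme.Opens.range_ι]; rintro _ ⟨z, rfl⟩; exact hlU₀ z
  let e₀ : U ⟶ (U₀ : Scheme.{u}) := IsOpenImmersion.lift U₀.ι l.toImage hr₀
  have he₀ : e₀ ≫ U₀.ι = l.toImage := IsOpenImmersion.lift_fac _ _ _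
  have hK : ∀ i, ∃ K : (Yb i).IdealSheafData, BlowUp.IsBlowUp (b' i ≫ c i ≫ π i) K ∧
      ∀ z, k i (f i z) ∉ K.support := by
    intro i
    obtain ⟨hb', hadm, -, -, -, -⟩ := hall i
    haveI : IsLocallyNoetherian (X i) := LocallyOfFiniteType.isLocallyNoetherian (c i)
    haveI : CompactSpace (X i) := QuasiCompact.compactSpace_of_compactSpace (c i)
    obtain ⟨K, -, hKs, hKb⟩ := BlowUpComp.exists_comp (hcJ i) (isFG_of_noetherian _) hadm.1 hb'
    refine ⟨K, hKb, fun z hz => ?_⟩
    have hkz : k i (f i z) = π i (l.toImage z) := by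
      rw [← Scheme.Hom.comp_apply, ← Scheme.Hom.comp_apply, hlπ]
    rw [← SetLike.mem_coe, hKs, hkz] at hz
    rcases hz with hz | ⟨x, hx, hxz⟩
    · exact hJ i z hz
    · haveI := Lib.Ideal.BlowUp.isIso_off_center (hcJ i)
      have hse : (s i ≫ c i ≫ π i) (e₀ z) = π i (l.toImage z) := by
        rw [reassoc_of% hsc i, Scheme.Hom.comp_apply, ← Scheme.Hom.comp_apply e₀, he₀]
      have hxe : s i (e₀ z) = x := injOn_of_isIso (φ := c i ≫ π i) (U := off (J i)) (x := x)
        (x' := s i (e₀ z))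
        (by show (c i ≫ π i) x ∉ (J i).support; rw [show (c i ≫ π i) x = _ from hxz]; exact hJ i z)
        (by rw [← Scheme.Hom.comp_apply (s i), hse]; exact hxz.symm)
      exact Set.disjoint_left.1 hadm.2 hx ⟨e₀ z, hxe⟩
  choose K hKb hKz using hK
  haveI hflat : ∀ i, Flat (k i) := fun i => H48.LocImm.flat_of_isLocalizing (hk i).1
  have hcomm : ∀ i, f i ≫ k i = (e₀ ≫ u' i) ≫ b' i ≫ c i ≫ π i := fun i => by
    obtain ⟨-, -, -, -, hub, -⟩ := hall i
    rw [Category.assoc, reassoc_of% hub, reassoc_of% hsc i, reassoc_of% he₀, hlπ]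
  haveI hX' : ∀ i, IsNoetherian (X' i) := fun i => by
    obtain ⟨hb', hadm, -, -, -, -⟩ := hall i
    haveI : IsProper (b' i) := BlowUpExists.isProper_of_isBlowUp hb' hadm.1
    haveI : IsLocallyNoetherian (X' i) :=
      LocallyOfFiniteType.isLocallyNoetherian (b' i ≫ c i ≫ π i)
    haveI : CompactSpace (X' i) :=
      QuasiCompact.compactSpace_of_compactSpace (b' i ≫ c i ≫ π i)
    exact { }
  refine ⟨Z, r, hrs, hrl, hrq, fun i => (K i).comap (k i), fun i => pullback (k i) (b' i ≫ c i ≫ π i),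
    fun i => pullback.fst _ _, fun i => pullback.lift (f i) (e₀ ≫ u' i) (hcomm i),
    fun i => pullback.snd _ _ ≫ o i, fun i => ?_, fun i i' => ?_⟩
  · obtain ⟨hb', hadm, ho, hor, hub, huo⟩ := hall i
    haveI := ho
    have hgu : pullback.lift (f i) (e₀ ≫ u' i) (hcomm i) ≫ pullback.snd _ _ ≫ o i = e₀ ≫ v := by
      rw [pullback.lift_snd_assoc, Category.assoc, huo]
    refine ⟨isBlowUp_pullback_fst (hKb i) (k i), fun z hz => hKz i z ?_, pullback.lift_fst _ _ _,
      H48.LocImm.isLocImmersion_comp (Groth.Agent.S18202.result (k i) _ (hk i))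
        ⟨H48.LocImm.isLocalizing_of_isOpenImmersion (o i), (o i).isOpenEmbedding.injective⟩, ?_, ?_⟩
    · rw [Scheme.IdealSheafData.support_comap] at hz
      exact hz
    · have hsub : Set.range (e₀ ≫ v) ⊆
          Set.range (fun x => (pullback.snd (k i) (b' i ≫ c i ≫ π i) ≫ o i) x) := by
        rintro _ ⟨z, rfl⟩
        exact ⟨pullback.lift (f i) (e₀ ≫ u' i) (hcomm i) z,
          ((Scheme.Hom.comp_apply _ _ _).symm.trans (congrArg (fun m => m z) hgu))⟩
      refine Dense.mono hsub ?_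
      haveI := hv
      have hd₀ : DenseRange e₀ := by
        intro x
        have := (l.toImage.denseRange : DenseRange l.toImage) x.1
        have e : U₀.ι ⁻¹' Set.range l.toImage = Set.range e₀ := by
          ext y
          constructor
          · rintro ⟨z, hz⟩
            refine ⟨z, U₀.ι.isOpenEmbedding.injective ?_⟩
            rw [← Scheme.Hom.comp_apply, he₀, hz]
          · rintro ⟨z, rfl⟩
            exact ⟨z, by rw [← Scheme.Hom.comp_apply, he₀]⟩
        rw [← e, ← U₀.ι.isOpenEmbedding.isOpenMap.preimage_closure_eq_closure_preimage U₀.ι.continuous]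
        exact this
      have hdense : ∀ j, DenseRange (e₀ ≫ u' j) := fun j => by
        obtain ⟨hbj, hadmj, -, -, hubj, -⟩ := hall j
        refine denseRange_lift hbj (e₀ ≫ s j) _ (by rw [Category.assoc, hubj]) ?_ fun z h =>
          Set.disjoint_left.1 hadmj.2 h ⟨e₀ z, (Scheme.Hom.comp_apply _ _ _).symm⟩
        exact denseRange_lift (hc j) l.toImage _ (by rw [Category.assoc, hsc, he₀])
          l.toImage.denseRange (hI j)
      intro x
      rcases hcov.ge (Set.mem_univ x) with ⟨t, rfl⟩ | h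
      · have := map_mem_closure v.continuous (hd₀ t) (t := Set.range (e₀ ≫ v))
          (by rintro _ ⟨z, rfl⟩; exact ⟨z, Scheme.Hom.comp_apply _ _ _⟩)
        exact this
      · obtain ⟨j, y, rfl⟩ := Set.mem_iUnion.1 h
        refine map_mem_closure (o j).continuous (hdense j y) ?_
        rintro _ ⟨z, rfl⟩
        refine ⟨z, ?_⟩
        rw [← Scheme.Hom.comp_apply, Category.assoc, (hall j).2.2.2.2.2]
    · rw [Category.assoc, hor]
      simp only [Category.assoc]
      rw [← hkp i, pullback.condition_assoc]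
      simp only [Category.assoc]
  · rw [pullback.lift_snd_assoc, pullback.lift_snd_assoc, Category.assoc, Category.assoc,
      (hall i).2.2.2.2.2, (hall i').2.2.2.2.2]

end Groth.Agent.H22.LocBlow
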