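import Groth.Agent.H22.LocBlow.Iso
import Groth.Agent.H22.StrictTransform.Section
import Groth.Agent.H48.LocImm.Dominant

/-!
# Extending rational maps after blow-ups
-/

set_option autoImplicit false
set_option maxHeartbeats 1000000

noncomputable section

universe u

open CategoryTheory CategoryTheory.Limits AlgebraicGeometry TopologicalSpace

namespace Groth.Agent.H22.LocBlow

open Groth.Agent.Lib StrictTransform

/-- The image factorisation of a morphism over a localizing immersion. -/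
theorem isLocImmersion_toImage {Z P X : Scheme.{u}} [IsNoetherian Z] (l : Z ⟶ P) [QuasiCompact l]
    (q : P ⟶ X) (h : LocImm.IsLocImmersion (l ≫ q)) : LocImm.IsLocImmersion l.toImage := by
  haveI := std_toImage l
  refine H48.LocImm.isLocImmersion_of_comp_of_app_injective l.toImage (l.imageι ≫ q) ?_
    fun U => l.toImage.app_injective U
  rwa [Scheme.Hom.toImage_imageι_assoc]

/-- A lift of a dense map to a blow-up with centre off its image is dense. -/
theorem denseRange_lift {T X X' : Scheme.{u}} {b : X' ⟶ X} {I : X.IdealSheafData}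
    (hb : BlowUp.IsBlowUp b I) (s : T ⟶ X) (s' : T ⟶ X') (hs : s' ≫ b = s)
    (hd : DenseRange s) (hoff : ∀ t, s t ∉ I.support) : DenseRange s' := by
  haveI := Lib.Ideal.BlowUp.isIso_off_center hb
  rw [DenseRange, dense_iff_inter_open]
  intro O hO ⟨y, hy⟩
  obtain ⟨y', hy'O, hy'I⟩ : ∃ y' ∈ O, b y' ∉ I.support := by
    by_contra! hall
    have h10 : (1 : Γ(X', (⟨O, hO⟩ : X'.Opens))) = 0 := by
      refine Lib.Ideal.EffCartier.eq_zero_of_germ_eq_zero_off hb.1 _ fun z hz hzs => ?_
      refine absurd ?_ hzs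
      rw [Scheme.IdealSheafData.support_comap]
      exact hall z hz
    have := congrArg (X'.presheaf.germ ⟨O, hO⟩ y hy) h10
    rw [map_one, map_zero] at this
    exact one_ne_zero this
  have hopen : IsOpen ((off I).ι '' ((b ∣_ off I).homeomorph '' ((b ⁻¹ᵁ off I).ι ⁻¹' O))) :=
    (off I).ι.isOpenEmbedding.isOpenMap _ ((b ∣_ off I).homeomorph.isOpenMap _
      (hO.preimage (b ⁻¹ᵁ off I).ι.continuous))
  obtain ⟨x, ⟨_, ⟨z, hz, rfl⟩, rfl⟩, t, ht⟩ := hd.inter_open_nonempty _ hopen
    ⟨b y', ⟨_, ⟨⟨y', hy'I⟩, hy'O, rfl⟩, by simp⟩⟩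
  have hzt : b z.1 = s t := by simpa using ht.symm
  refine ⟨z.1, hz, t, injOn_of_isIso (φ := b) (U := off I) (x := z.1) z.2 ?_⟩
  rw [← Scheme.Hom.comp_apply, hs, hzt]

/-- After a blow-up with centre missing `j` a morphism to a proper scheme extends. -/
theorem exists_extend {S X Y Z : Scheme.{u}} [IsNoetherian X] [IsNoetherian Z]
    (a : X ⟶ S) (b : Y ⟶ S) [IsProper b] (j : Z ⟶ X) (hj : LocImm.IsLocImmersion j) (f : Z ⟶ Y)
    (hjf : j ≫ a = f ≫ b) :
    ∃ (𝓘 : X.IdealSheafData) (Xt : Scheme.{u}) (c : Xt ⟶ X) (e : Z ⟶ Xt) (f' : Xt ⟶ Y),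
      BlowUp.IsBlowUp c 𝓘 ∧ (∀ z, j z ∉ 𝓘.support) ∧ IsProper c ∧
      e ≫ c = j ∧ e ≫ f' = f ∧ c ≫ a = f' ≫ b := by
  let l : Z ⟶ pullback a b := pullback.lift j f hjf
  haveI : QuasiSeparatedSpace ↥(pullback a b) :=
    quasiSeparatedSpace_of_quasiSeparated (pullback.fst a b)
  haveI : QuasiCompact l := quasiCompact_of_compactSpace l
  haveI : IsLocallyNoetherian l.image :=
    LocallyOfFiniteType.isLocallyNoetherian (l.imageι ≫ pullback.fst a b)
  haveI : CompactSpace l.image :=
    QuasiCompact.compactSpace_of_compactSpace (l.imageι ≫ pullback.fst a b)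
  haveI : IsNoetherian l.image := { }
  have hq : l.toImage ≫ l.imageι ≫ pullback.fst a b = j := by
    rw [Scheme.Hom.toImage_imageι_assoc, pullback.lift_fst]
  obtain ⟨I, J, W', c, hc, hI, hcq, hJ⟩ := exists_iso (l.imageι ≫ pullback.fst a b) l.toImage
    (isLocImmersion_toImage l (pullback.fst a b) (by rwa [pullback.lift_fst])) (by rwa [hq])
  obtain ⟨e, he, -⟩ := hc.2 Z l.toImage
    (Lib.Ideal.EffCartier.isEffCartier_comap_of_disjoint _ hI)
  have hJ' : ∀ z, j z ∉ J.support := fun z => by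
    have := hJ z
    rwa [← Scheme.Hom.comp_apply, hq] at this
  refine ⟨J, W', c ≫ l.imageι ≫ pullback.fst a b, e, c ≫ l.imageι ≫ pullback.snd a b, hcq, hJ',
    BlowUpExists.isProper_of_isBlowUp hcq (isFG_of_noetherian _), ?_, ?_, ?_⟩
  · rw [reassoc_of% he, hq]
  · rw [reassoc_of% he, Scheme.Hom.toImage_imageι_assoc, pullback.lift_snd]
  · simp only [Category.assoc, pullback.condition]

end Groth.Agent.H22.LocBlow
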