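import Groth.Agent.H22.StrictTransform.Common
import Groth.Agent.H22.StrictTransform.Near
import Groth.Agent.H22.BlowUpComp.Compose
import Groth.Agent.H48.LocImm.EssFT
import Groth.Agent.S18194
import Groth.Agent.S18204
import Groth.Agent.S18207

/-!
# Admissible blow-ups making a proper morphism an isomorphism near a localizing immersion
-/

set_option autoImplicit false
set_option maxHeartbeats 1000000

noncomputable section

universe u

open CategoryTheory CategoryTheory.Limits AlgebraicGeometry TopologicalSpace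

namespace Groth.Agent.H22.LocBlow

open Groth.Agent.Lib StrictTransform

theorem isSeparated_of_isLocImmersion {X Y : Scheme.{u}} [IsNoetherian X] [IsNoetherian Y]
    {f : X ⟶ Y} (hf : LocImm.IsLocImmersion f) : IsSeparated f := by
  haveI : Mono f := ((Groth.Agent.S18207.result f).1 hf).2
  exact ⟨inferInstance⟩

theorem isFG_of_noetherian {X : Scheme.{u}} [IsLocallyNoetherian X] (I : X.IdealSheafData) :
    Lim.IdealExt.IsFG I := fun U =>
  (isNoetherianRing_iff_ideal_fg _).1 (IsLocallyNoetherian.component_noetherian U) _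

/-- An open which a blow-up removes, leaving a prescribed disjoint open alone. -/
theorem exists_remove {W : Scheme.{u}} [IsNoetherian W] (R U : W.Opens) (hd : Disjoint R U) :
    ∃ (I : W.IdealSheafData) (W' : Scheme.{u}) (b : W' ⟶ W), BlowUp.IsBlowUp b I ∧
      Lim.IdealExt.IsFG I ∧ (∀ x ∈ U, x ∉ I.support) ∧ ∀ x', b x' ∉ R := by
  haveI : NoetherianSpace W := inferInstance
  haveI : CompactSpace (R : Scheme.{u}) :=
    isCompact_iff_compactSpace.1 (NoetherianSpace.isCompact _)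
  haveI : QuasiCompact R.ι := quasiCompact_iff_compactSpace R.ι |>.2 inferInstance
  let b := BlowUpExists.blProj R.ι.ker
  have hb : BlowUp.IsBlowUp b R.ι.ker := BlowUpAmple.isBlowUp_blProj _
  refine ⟨_, _, b, hb, isFG_of_noetherian _, fun x hxU hx => ?_, fun x' hx' => ?_⟩
  · rw [← SetLike.mem_coe, Scheme.Hom.support_ker, Scheme.Opens.range_ι] at hx
    obtain ⟨y, hyU, hyR⟩ := mem_closure_iff.1 hx _ U.2 hxU
    exact Set.disjoint_left.1 (Opens.coe_disjoint.2 hd) hyR hyU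
  · have hbot : (R.ι.ker).comap R.ι = ⊥ := le_bot_iff.1 (Scheme.IdealSheafData.le_map_iff_comap_le.1
      (by rw [Scheme.IdealSheafData.map_bot]))
    have hc : BlowUp.IsEffCartierIdeal ((R.ι.ker.comap b).comap (b ⁻¹ᵁ R).ι) :=
      Lib.Ideal.EffCartier.isEffCartier_comap_of_flat _ hb.1
    rw [← Scheme.IdealSheafData.comap_comp, ← morphismRestrict_ι, Scheme.IdealSheafData.comap_comp,
      hbot, Scheme.IdealSheafData.comap_bot] at hc
    obtain ⟨T, hT, f, hf, hfe⟩ := hc ⟨x', hx'⟩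
    have hf0 : f = 0 := by
      have : f ∈ (⊥ : ((b ⁻¹ᵁ R : Scheme.Opens _) : Scheme.{u}).IdealSheafData).ideal T :=
        hfe.ge (Ideal.mem_span_singleton_self f)
      simpa using this
    have h10 : (1 : Γ(((b ⁻¹ᵁ R : Scheme.Opens _) : Scheme.{u}), T.1)) = 0 :=
      (mem_nonZeroDivisors_iff.1 hf).2 1 (by rw [hf0, mul_zero])
    have := congrArg (((b ⁻¹ᵁ R : Scheme.Opens _) : Scheme.{u}).presheaf.germ T.1 ⟨x', hx'⟩ hT) h10
    rw [map_one, map_zero] at this
    exact one_ne_zero this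

/-- A proper morphism which is a localizing immersion along the image of one becomes an isomorphism
after blow-ups whose centres avoid that image. -/
theorem exists_iso {Z W X : Scheme.{u}} [IsNoetherian Z] [IsNoetherian W] [IsNoetherian X]
    (q : W ⟶ X) [IsProper q] (k : Z ⟶ W) (hk : LocImm.IsLocImmersion k)
    (hkq : LocImm.IsLocImmersion (k ≫ q)) :
    ∃ (I : W.IdealSheafData) (J : X.IdealSheafData) (Y : Scheme.{u}) (c : Y ⟶ W),
      BlowUp.IsBlowUp c I ∧ (∀ z, k z ∉ I.support) ∧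
      BlowUp.IsBlowUp (c ≫ q) J ∧ (∀ z, q (k z) ∉ J.support) := by
  haveI := isSeparated_of_isLocImmersion hk
  haveI := isSeparated_of_isLocImmersion hkq
  haveI : EssFT.EssFiniteType q := by
    rw [EssFT.essFiniteType_iff]
    exact ⟨H48.LocImm.locallyEssFiniteType_of_locallyOfFiniteType q, inferInstance⟩
  obtain ⟨U, hkU, hUq⟩ := Groth.Agent.S18194.result k (k ≫ q) q hk hkq rfl
  haveI : CompactSpace (U : Scheme.{u}) :=
    isCompact_iff_compactSpace.1 (NoetherianSpace.isCompact _)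
  haveI : IsNoetherian (U : Scheme.{u}) := { }
  haveI : IsOpenImmersion (U.ι ≫ q) := Groth.Agent.S18204.result _ hUq
  set V := (U.ι ≫ q).opensRange
  have hUV : U ≤ q ⁻¹ᵁ V := fun x hx => ⟨⟨x, hx⟩, rfl⟩
  let s : (U : Scheme.{u}) ⟶ (q ⁻¹ᵁ V : W.Opens) := W.homOfLE hUV
  have hs : s ≫ (q ∣_ V) = (U.ι ≫ q).isoOpensRange.hom := by
    rw [← cancel_mono V.ι, Category.assoc, morphismRestrict_ι, Scheme.homOfLE_ι_assoc]
    exact ((U.ι ≫ q).isoOpensRange_hom_ι).symm
  haveI : IsClosedImmersion s := by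
    haveI : IsClosedImmersion (s ≫ (q ∣_ V)) := by rw [hs]; infer_instance
    exact IsClosedImmersion.of_comp s (q ∣_ V)
  have hR : IsOpen ((q ⁻¹ᵁ V : Set W) \ (U : Set W)) := by
    have h1 : IsClosed (Set.range s) := s.isClosedEmbedding.isClosed_range
    have h2 : ((q ⁻¹ᵁ V : Set W) \ (U : Set W)) = (q ⁻¹ᵁ V).ι '' (Set.range s)ᶜ := by
      ext x
      constructor
      · rintro ⟨hx, hxU⟩
        refine ⟨⟨x, hx⟩, fun ⟨u, hu⟩ => hxU ?_, rfl⟩
        have := congrArg (fun w => (q ⁻¹ᵁ V).ι w) hu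
        simp only [← Scheme.Hom.comp_apply, s, Scheme.homOfLE_ι] at this
        have h2 : U.ι u = x := this
        exact h2 ▸ u.2
      · rintro ⟨x, hx, rfl⟩
        refine ⟨x.2, fun hxU => hx ⟨⟨x.1, hxU⟩, Subtype.ext ?_⟩⟩
        simp [s]
    rw [h2]
    exact (q ⁻¹ᵁ V).ι.isOpenEmbedding.isOpenMap _ h1.isOpen_compl
  obtain ⟨I₀, W₁, b, hb, hI₀, hU₀, hbR⟩ := exists_remove ⟨_, hR⟩ U
    (Opens.coe_disjoint.1 (Set.disjoint_left.2 fun x hx => hx.2))
  haveI : IsProper b := BlowUpExists.isProper_of_isBlowUp hb hI₀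
  have hpre : (b ≫ q) ⁻¹ᵁ V = b ⁻¹ᵁ U := by
    ext x
    refine ⟨fun hx => by_contra fun hn => hbR x ⟨?_, hn⟩, fun hx => ?_⟩
    · simpa using hx
    · have : q (b x) ∈ V := hUV hx
      simpa using this
  haveI : IsIso (b ∣_ (off I₀)) := Lib.Ideal.BlowUp.isIso_off_center hb
  haveI : IsIso (b ∣_ U) := StrictTransform.isIso_restrict_of_le (φ := b) (V := off I₀) (fun x hx => hU₀ x hx : U ≤ off I₀)
  haveI : IsIso ((b ≫ q) ∣_ V) := by
    have e : ((b ≫ q) ∣_ V) ≫ V.ι = (W₁.isoOfEq hpre).hom ≫ (b ∣_ U) ≫ U.ι ≫ q := by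
      rw [morphismRestrict_ι, morphismRestrict_ι_assoc, Scheme.isoOfEq_hom_ι_assoc]
    haveI : IsOpenImmersion (((b ≫ q) ∣_ V) ≫ V.ι) := by rw [e]; infer_instance
    haveI : IsOpenImmersion ((b ≫ q) ∣_ V) := IsOpenImmersion.of_comp _ V.ι
    refine (isIso_iff_isOpenImmersion_and_surjective _).2 ⟨inferInstance, ⟨fun v => ?_⟩⟩
    obtain ⟨u, hu⟩ : v.1 ∈ Set.range (U.ι ≫ q) := v.2
    obtain ⟨w, hw⟩ := ((W₁.isoOfEq hpre).hom ≫ (b ∣_ U)).surjective u
    refine ⟨w, Subtype.ext ?_⟩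
    show V.ι (((b ≫ q) ∣_ V) w) = v.1
    rw [← Scheme.Hom.comp_apply, e, ← Category.assoc, Scheme.Hom.comp_apply, hw, hu]
  obtain ⟨J, Y, c', hc', hcq, hadm, -⟩ :=
    StrictTransform.exists_common (b ≫ q) V (NoetherianSpace.isCompact _)
  obtain ⟨K, -, hKs, hKb⟩ := BlowUpComp.exists_comp hb hI₀
    (isFG_comap' (b ≫ q) hadm.1) hc'
  refine ⟨K, J, Y, c' ≫ b, hKb, fun z => ?_, by rwa [Category.assoc], fun z hz => ?_⟩
  · intro hz
    rw [← SetLike.mem_coe, hKs] at hz
    rcases hz with hz | ⟨x, hx, hxz⟩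
    · exact hU₀ _ (hkU ⟨z, rfl⟩) hz
    · rw [SetLike.mem_coe, Scheme.IdealSheafData.support_comap] at hx
      refine Set.disjoint_left.1 hadm.2 hx ?_
      show q (b x) ∈ V
      rw [show b x = k z from hxz]
      exact hUV (hkU ⟨z, rfl⟩)
  · exact Set.disjoint_left.1 hadm.2 hz (hUV (hkU ⟨z, rfl⟩))

end Groth.Agent.H22.LocBlow
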